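import Cfsg.Agent.H319.PQ.Perm
import Cfsg.Agent.H329.PQ.Trace

/-!
# S4884, block A: T3 for combinations of the permutation characters on cosets (helper319)

`mu P χ = |P|⁻¹ ∑_{x ∈ P} χ(x)`.
-/

set_option autoImplicit false
set_option linter.unusedSectionVars false

open Cfsg

namespace Cfsg.Agent.H319.PQ

open Cfsg.Agent.H317.PQ Cfsg.Agent.Blocks.Basic
open Cfsg.Agent.Blocks Cfsg.Agent.Blocks.Local
open scoped ComplexConjugate

universe u

variable {S : Type u} [Group S] [Finite S] {q : ℕ}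

/-- the multiplicity of `χ` in the permutation character on the cosets of `P` -/
noncomputable def mu (P : Subgroup S) (χ : S → ℂ) : ℂ := (Nat.card P : ℂ)⁻¹ * ∑ᶠ x : P, χ x

/-- Frobenius reciprocity -/
theorem classInner_cosets [Fintype S] (P : Subgroup S) (χ : IrrCharacter S) :
    classInner (fun g : S => (Nat.card (MulAction.fixedBy (S ⧸ P) g) : ℂ)) (χ : S → ℂ) = mu P (χ : S → ℂ) := by
  classical
  have : Fintype P := Fintype.ofFinite P
  obtain ⟨k, hk⟩ := Characters.Core.classInner_isNat (PElements.isCharacter_fixedBy (G := S) (X := S ⧸ P))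
    (Characters.Core.isIrr_isCharacter χ.2)
  have h1 : classInner (fun g : S => (Nat.card (MulAction.fixedBy (S ⧸ P) g) : ℂ)) (χ : S → ℂ) =
      conj (mu P (χ : S → ℂ)) := by
    have hst : MulAction.stabilizer S ((1 : S) : S ⧸ P) = P := by
      ext g
      rw [MulAction.mem_stabilizer_iff]
      show ((g * 1 : S) : S ⧸ P) = ((1 : S) : S ⧸ P) ↔ _
      rw [eq_comm, QuotientGroup.eq]
      simp
    have : Fintype (MulAction.stabilizer S ((1 : S) : S ⧸ P)) := Fintype.ofFinite _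
    have h2 := H329.PQ.sum_fixed (G := S) (X := S ⧸ P) ((1 : S) : S ⧸ P) (χ : S → ℂ)
      (fun g h => Characters.Core.isIrr_isClassFunction χ.2 g h)
    have h3 : ∑ h : MulAction.stabilizer S ((1 : S) : S ⧸ P), (χ : S → ℂ) h = ∑ x : P, (χ : S → ℂ) x :=
      Fintype.sum_equiv (MulEquiv.subgroupCongr hst).toEquiv _ _ fun _ => rfl
    rw [h3] at h2
    have h4 : (Nat.card S : ℂ) ≠ 0 := by exact_mod_cast Nat.card_pos.ne'
    have h5 : (Nat.card P : ℂ) ≠ 0 := by exact_mod_cast Nat.card_pos.ne'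
    have h6 : (Nat.card S : ℂ) = (Nat.card (S ⧸ P) : ℂ) * (Nat.card P : ℂ) := by
      exact_mod_cast Subgroup.card_eq_card_quotient_mul_card_subgroup P
    have h7 : (Nat.card (S ⧸ P) : ℂ) ≠ 0 := by exact_mod_cast Nat.card_pos.ne'
    have h8 : mu P (χ : S → ℂ) =
        (Nat.card S : ℂ)⁻¹ * ∑ g : S, (χ : S → ℂ) g * (Nat.card (MulAction.fixedBy (S ⧸ P) g) : ℂ) := by
      rw [h2, mu, finsum_eq_sum_of_fintype, h6]
      field_simp
    rw [h8, Characters.Core.classInner_def, map_mul, map_sum, map_inv₀, Complex.conj_natCast]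
    congr 1
    exact Finset.sum_congr rfl fun g _ => by rw [map_mul, Complex.conj_natCast, mul_comm]
  rw [hk] at h1 ⊢
  have h2 := congrArg conj h1
  rw [Complex.conj_natCast, Complex.conj_conj] at h2
  exact h2

/-- the multiplicities in the combination -/
theorem classInner_permTheta [Fintype S] {ι : Type*} [Fintype ι] (P : ι → Subgroup S) (a : ι → ℤ)
    (χ : IrrCharacter S) : classInner (permTheta (G := S) (fun i => S ⧸ P i) a) (χ : S → ℂ) =
      ∑ i, (a i : ℂ) * mu (P i) (χ : S → ℂ) := by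
  have h2 : permTheta (G := S) (fun i => S ⧸ P i) a =
      ∑ j, (a j : ℂ) • (fun g : S => (Nat.card (MulAction.fixedBy (S ⧸ P j) g) : ℂ)) := by
    funext g
    rw [Finset.sum_apply]
    rfl
  rw [h2, Characters.Core.classInner_sum_left]
  exact Finset.sum_congr rfl fun j _ => by rw [Characters.Core.classInner_smul_left, classInner_cosets]

/-- **T3 (block A).** -/
theorem rowReal_of_cosets [Fact q.Prime] {ι : Type*} [Fintype ι] (a : ι → ℤ) (P : ι → Subgroup S) (Q : Subgroup S)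
    (hQ : IsPGroup q Q) (h1 : ¬ (q : ℤ) ∣ ∑ i, a i)
    (h2 : ∀ χ : IrrCharacter S, ∑ i, (a i : ℂ) * mu (P i) (χ : S → ℂ) ≠ 0 →
      ¬ 2 ∣ charDegree (χ : S → ℂ) ∧ ∀ g, ((χ : S → ℂ) g).im = 0)
    (h3 : ∀ x ∈ Subgroup.centralizer (Q : Set S), ¬ q ∣ orderOf x →
      (q : ℤ) ∣ ∑ i, a i * (Nat.card (fixSet (S ⧸ P i) Q x) : ℤ)) : Cfsg.Agent.H706.PB.RowReal q S := by
  classical
  have : Fintype S := Fintype.ofFinite S
  obtain ⟨n, hn⟩ := exists_mult (G := S) (fun i => S ⧸ P i) a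
  have h4 := mult_triv (G := S) (fun i => S ⧸ P i) a n hn (fun i => inferInstance)
  refine rowReal_of_perm (G := S) (fun i => S ⧸ P i) a (Fact.out : q.Prime) Q hQ n hn (by rwa [h4]) (fun χ hχ _ => ?_) h3
  apply h2 χ
  rw [← classInner_permTheta, hn]
  intro h5
  apply hχ
  have h6 : n χ = 0 := by exact_mod_cast h5
  rw [h6]
  exact dvd_zero _

/-- **T3 (block A)**, with the fixed points of `x` only -/
theorem rowReal_of_cosets' [Fact q.Prime] {ι : Type*} [Fintype ι] (a : ι → ℤ) (P : ι → Subgroup S) (Q : Subgroup S)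
    (hQ : IsPGroup q Q) (h1 : ¬ (q : ℤ) ∣ ∑ i, a i)
    (h2 : ∀ χ : IrrCharacter S, ∑ i, (a i : ℂ) * mu (P i) (χ : S → ℂ) ≠ 0 →
      ¬ 2 ∣ charDegree (χ : S → ℂ) ∧ ∀ g, ((χ : S → ℂ) g).im = 0)
    (h3 : ∀ x ∈ Subgroup.centralizer (Q : Set S), ¬ q ∣ orderOf x →
      (q : ℤ) ∣ ∑ i, a i * (Nat.card (MulAction.fixedBy (S ⧸ P i) x) : ℤ)) : Cfsg.Agent.H706.PB.RowReal q S := by
  refine rowReal_of_cosets a P Q hQ h1 h2 fun x hx hxq => ?_
  have h4 : (∑ i, a i * (Nat.card (fixSet (S ⧸ P i) Q x) : ℤ)) ≡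
      (∑ i, a i * (Nat.card (MulAction.fixedBy (S ⧸ P i) x) : ℤ)) [ZMOD q] := by
    rw [Int.modEq_iff_dvd, ← Finset.sum_sub_distrib]
    refine Finset.dvd_sum fun j _ => ?_
    rw [← mul_sub]
    exact Dvd.dvd.mul_left (card_fixedBy_modEq_int hQ hx).symm.dvd _
  exact (Int.ModEq.dvd_iff h4).2 (h3 x hx hxq)

end Cfsg.Agent.H319.PQ
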