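import Cfsg.Agent.H706.PB.Defs
import Cfsg.Agent.H635.SB.Tools
import Cfsg.Agent.H654.BD.OwnBlk
import Cfsg.Agent.H610.EB.Red
import Cfsg.Agent.H751.BD.Basic
import Cfsg.Agent.H596.Degree

/-!
# S4884, RED2: the block tools (helper319)

* `mem_of_centralizer_le` (B2): `N` normal, `U` a Sylow `p`-subgroup of `N` with `C_G(U) ≤ N`: every irreducible
  character of `G` over the principal block of `N` is in the principal block;
* `mem_of_index_pow` (B2'): the same if `|G : N|` is a power of `p`;
* `exists_over` (B4): every member of the principal block of `N` lies under a member of the principal block of `G`;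
* `exists_odd_two` (B6): if `2 ∣ |G|`, the principal `2`-block has a nontrivial member of odd degree.
-/

set_option autoImplicit false
set_option linter.unusedSectionVars false
set_option linter.unusedVariables false

open Cfsg
open scoped ComplexConjugate

namespace Cfsg.Agent.H319.PQ.Red2

open Cfsg.Agent.Blocks Cfsg.Agent.Blocks.Local Cfsg.Agent.Blocks.Basic

universe u

variable {G : Type u} [Group G] [Finite G] {p : ℕ} [hp : Fact p.Prime] {M : Ideal AlgInt}

/-- outside `N` the central characters of a block over the principal block of `N` are in the local ideal -/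
theorem local_of_notMem (hM : IsPModular p M) (N : Subgroup G) [N.Normal] [Fintype N] (U : Sylow p N)
    (hU : Subgroup.centralizer (((U : Subgroup N).map N.subtype : Subgroup G) : Set G) ≤ N)
    {θ : IrrCharacter N} (hθ : θ ∈ principalBlock M N) {χ : IrrCharacter G}
    (h : classInner (fun n : N => (χ : G → ℂ) n) (θ : N → ℂ) ≠ 0) {g : G} (hg : g ∉ N) :
    MemLocalIdeal M (centralChar (χ : G → ℂ) g) := by
  classical
  have := Fintype.ofFinite G
  have hprime : M.IsPrime := isPrime_of_isPModular hM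
  have hB : IsPBlock M (blockOf M (χ : G → ℂ)) := isPBlock_blockOf χ
  have hQ : (((U : Subgroup N).map N.subtype).subgroupOf N) = (U : Subgroup N) := by
    rw [Subgroup.subgroupOf, Subgroup.comap_map_eq_self_of_injective N.subtype_injective]
  obtain ⟨P, hP, hPN⟩ := S4438.result p M hM N (principalBlock M N) ⟨H893.Sd.one N, rfl⟩
    ((U : Subgroup N).map N.subtype) (Subgroup.map_subtype_le _)
    (by rw [hQ]; exact (S4652.result p M hM _).2 ⟨U, rfl⟩) (blockOf M (χ : G → ℂ)) hB
    ⟨χ, mem_blockOf_self χ, θ, hθ, h⟩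
  have h1 : ((U : Subgroup N).map N.subtype : Subgroup G) ≤ P := by
    rw [← hPN]; exact inf_le_left
  have hPp : IsPGroup p P := Basic.isPGroup_of_isDefectGroup hP
  obtain ⟨y, hy, S, hS⟩ := hP
  have hPy : P ≤ Subgroup.centralizer ({y} : Set G) := by
    rw [hS]; exact Subgroup.map_subtype_le _
  by_contra hcon
  obtain ⟨x, hx, hx'⟩ := MinMax.exists_isConj_of_blockCoeff hM hB (g := g) (y := y)
    ⟨χ, mem_blockOf_self χ, hcon⟩ hy.2.1 hPp hPy
  have h2 : x ∈ Subgroup.centralizer (((U : Subgroup N).map N.subtype : Subgroup G) : Set G) := by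
    rw [Subgroup.mem_centralizer_iff]
    intro u hu
    exact Subgroup.mem_centralizer_singleton_iff.1 (hx' (h1 hu))
  have h3 : x ∈ N := hU h2
  obtain ⟨c, hc⟩ := isConj_iff.1 hx
  apply hg
  have h4 : g = c⁻¹ * x * c⁻¹⁻¹ := by rw [← hc]; group
  rw [h4]
  exact Subgroup.Normal.conj_mem inferInstance x h3 c⁻¹

/-- the restriction of the trivial character -/
theorem inner_one_ne_zero (N : Subgroup G) [Fintype N] :
    classInner (fun n : N => ((H893.Sd.one G : IrrCharacter G) : G → ℂ) n)
      ((H893.Sd.one N : IrrCharacter N) : N → ℂ) ≠ 0 := by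
  have h1 : (fun n : N => ((H893.Sd.one G : IrrCharacter G) : G → ℂ) n) =
      ((H893.Sd.one N : IrrCharacter N) : N → ℂ) := rfl
  rw [h1, CliffordCentral.classInner_self]
  exact one_ne_zero

/-- **(B2)** `C_G(U) ≤ N` for a Sylow `p`-subgroup `U` of the normal subgroup `N`: the irreducible characters of `G`
over the principal block of `N` are in the principal block. -/
theorem mem_of_centralizer_le (hM : IsPModular p M) (N : Subgroup G) [N.Normal] [Fintype N] (U : Sylow p N)
    (hU : Subgroup.centralizer (((U : Subgroup N).map N.subtype : Subgroup G) : Set G) ≤ N)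
    {θ : IrrCharacter N} (hθ : θ ∈ principalBlock M N) {χ : IrrCharacter G}
    (h : classInner (fun n : N => (χ : G → ℂ) n) (θ : N → ℂ) ≠ 0) : χ ∈ principalBlock M G := by
  classical
  have hprime : M.IsPrime := isPrime_of_isPModular hM
  intro g
  have hone : H893.Sd.one N ∈ principalBlock M N := PrincipalSection.one_mem_principalBlock
  have h1 := inner_one_ne_zero (G := G) N
  by_cases hg : g ∈ N
  · have e1 := Over.centralChar_eq_of_over N χ.2 θ.2 h ⟨g, hg⟩
    have e2 := Over.centralChar_eq_of_over N (H893.Sd.one G).2 (H893.Sd.one N).2 h1 ⟨g, hg⟩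
    have e3 := Induced.memLocalIdeal_induced_sub hprime N (H893.Sd.one N) θ hθ g
    change MemLocalIdeal M (centralChar ((H893.Sd.one G : IrrCharacter G) : G → ℂ) g - centralChar (χ : G → ℂ) g)
    rw [e1, e2]
    exact e3
  · exact Induced.memLocalIdeal_sub hprime (local_of_notMem hM N U hU hone h1 hg)
      (local_of_notMem hM N U hU hθ h hg)

/-- **(B2), the characters of the quotient.** -/
theorem mem_of_le_chKer (hM : IsPModular p M) (N : Subgroup G) [N.Normal] (U : Sylow p N)
    (hU : Subgroup.centralizer (((U : Subgroup N).map N.subtype : Subgroup G) : Set G) ≤ N)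
    {χ : IrrCharacter G} (h : ∀ n ∈ N, (χ : G → ℂ) n = (χ : G → ℂ) 1) : χ ∈ principalBlock M G := by
  classical
  have := Fintype.ofFinite N
  have hprime : M.IsPrime := isPrime_of_isPModular hM
  refine mem_of_centralizer_le hM N U hU (θ := H893.Sd.one N) PrincipalSection.one_mem_principalBlock ?_
  have h1 : (fun n : N => (χ : G → ℂ) n) = fun _ => (χ : G → ℂ) 1 := funext fun n => h n n.2
  have h2 : (χ : G → ℂ) 1 ≠ 0 := CliffordCentral.irr_one_ne_zero χ
  rw [h1]
  simp only [classInner]
  simp [H893.Sd.one, h2]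

/-- **(B2')** the index of `N` is a power of `p`. -/
theorem mem_of_index_pow (hM : IsPModular p M) (N : Subgroup G) [N.Normal] [Fintype N]
    (hidx : ∃ j, N.index = p ^ j) {θ : IrrCharacter N} (hθ : θ ∈ principalBlock M N) {χ : IrrCharacter G}
    (h : classInner (fun n : N => (χ : G → ℂ) n) (θ : N → ℂ) ≠ 0) : χ ∈ principalBlock M G := by
  exact H610.EB.mem_of_over hM N hidx hθ h

/-- **(B4)** -/
theorem exists_over (hM : IsPModular p M) (N : Subgroup G) [N.Normal] [Fintype N]
    {θ : IrrCharacter N} (hθ : θ ∈ principalBlock M N) :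
    ∃ χ : IrrCharacter G, χ ∈ principalBlock M G ∧ classInner (fun n : N => (χ : G → ℂ) n) (θ : N → ℂ) ≠ 0 := by
  obtain ⟨χ, h1, h2⟩ := H751.BD.exists_over_mem hM N hθ
  refine ⟨χ, h1, ?_⟩
  rw [H672.over_iff] at h2
  exact h2

/-- going down -/
theorem mem_of_over (hM : IsPModular p M) (N : Subgroup G) [N.Normal] [Fintype N] {χ : IrrCharacter G}
    (hχ : χ ∈ principalBlock M G) {θ : IrrCharacter N}
    (h : classInner (fun n : N => (χ : G → ℂ) n) (θ : N → ℂ) ≠ 0) : θ ∈ principalBlock M N := by
  have := Fintype.ofFinite G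
  exact H611.CoverPrincipal.mem_principalBlock_of_over p hM N χ θ h hχ

/-- **(B5)** -/
theorem degree_dvd (N : Subgroup G) [N.Normal] [Fintype N] (χ : IrrCharacter G) (θ : IrrCharacter N)
    (h : classInner (fun n : N => (χ : G → ℂ) n) (θ : N → ℂ) ≠ 0) :
    charDegree (θ : N → ℂ) ∣ charDegree (χ : G → ℂ) ∧
      charDegree (χ : G → ℂ) / charDegree (θ : N → ℂ) ∣ N.index := by
  have := Fintype.ofFinite G
  exact H596.charDegree_dvd_of_over N χ.2 θ.2 h

/-- **(B5)**, the form used: a prime which divides neither `θ(1)` nor `|G : N|` does not divide `χ(1)` -/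
theorem not_dvd_degree {r : ℕ} (hr : r.Prime) (N : Subgroup G) [N.Normal] [Fintype N] {χ : IrrCharacter G}
    {θ : IrrCharacter N} (h : classInner (fun n : N => (χ : G → ℂ) n) (θ : N → ℂ) ≠ 0)
    (hθ : ¬ r ∣ charDegree (θ : N → ℂ)) (hN : ¬ r ∣ N.index) : ¬ r ∣ charDegree (χ : G → ℂ) := by
  obtain ⟨h1, h2⟩ := degree_dvd N χ θ h
  intro h3
  rw [← Nat.mul_div_cancel' h1] at h3
  rcases hr.dvd_mul.1 h3 with h4 | h4
  · exact hθ h4
  · exact hN (h4.trans h2)

/-- **(B6)** -/
theorem exists_odd_two (hM : IsPModular 2 M) (h2 : 2 ∣ Nat.card G) :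
    ∃ χ : IrrCharacter G, χ ∈ principalBlock M G ∧ ¬ 2 ∣ charDegree (χ : G → ℂ) ∧
      (χ : G → ℂ) ≠ fun _ => (1 : ℂ) := by
  have : Fact (Nat.Prime 2) := ⟨Nat.prime_two⟩
  obtain ⟨y, hy⟩ := exists_prime_orderOf_dvd_card' 2 h2
  obtain ⟨χ, h3, h4, -, h5⟩ := H635.SB.exists_odd_of_singular (G := G) Nat.prime_two (y := y) (by rw [hy])
    fun χ _ ha hb => absurd hb ha
  exact ⟨χ, h3 M hM, h4, h5⟩

end Cfsg.Agent.H319.PQ.Red2
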