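import Cfsg.Agent.H319.PQ.Theta
import Cfsg.Agent.Blocks.PElements

/-!
# S4884, block H3: T3 for combinations of permutation characters (helper319)

`X j` finite `G`-sets, `c j` integers, `permTheta X c g = ∑ c j |Fix_{X j}(g)|`, `n χ = ⟨permTheta, χ⟩`.
If for every `q`-regular `g ∈ C_G(Q)` the number `∑ c j |Fix_{X j}(⟨g⟩ Q)|` is divisible by `q`, then
`∑_{χ ∈ B₀(q)} n_χ χ(1) = 0` modulo `q`.
-/

set_option autoImplicit false
set_option linter.unusedSectionVars false

open Cfsg

namespace Cfsg.Agent.H319.PQ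

open Cfsg.Agent.H317.PQ Cfsg.Agent.Blocks.Basic
open Cfsg.Agent.Blocks Cfsg.Agent.Blocks.Local
open Cfsg.Agent.H635.SB
open scoped ComplexConjugate

universe u v

section fixed

variable {G : Type u} [Group G] {q : ℕ} {X : Type v} [MulAction G X]

/-- the action of a centralizing subgroup on the fixed points -/
@[reducible]
def actFixed (g : G) (Q : Subgroup G) (hg : g ∈ Subgroup.centralizer (Q : Set G)) :
    MulAction Q (MulAction.fixedBy X g) where
  smul y x := ⟨(y : G) • (x : X), by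
    have h1 : (y : G) * g = g * y := Subgroup.mem_centralizer_iff.1 hg y y.2
    have h2 : g • (x : X) = x := x.2
    show g • (y : G) • (x : X) = (y : G) • (x : X)
    rw [← mul_smul, ← h1, mul_smul, h2]⟩
  one_smul x := Subtype.ext (one_smul G (x : X))
  mul_smul a b x := Subtype.ext (mul_smul (a : G) (b : G) (x : X))

/-- **the fixed points of `⟨g⟩ Q`** -/
def fixSet (X : Type v) [MulAction G X] (Q : Subgroup G) (g : G) : Set X := {x | g • x = x ∧ ∀ y ∈ Q, y • x = x}

theorem card_fixedBy_modEq [Finite X] [Fact q.Prime] {Q : Subgroup G} (hQ : IsPGroup q Q) {g : G}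
    (hg : g ∈ Subgroup.centralizer (Q : Set G)) :
    Nat.card (MulAction.fixedBy X g) ≡ Nat.card (fixSet X Q g) [MOD q] := by
  let _ := actFixed (X := X) g Q hg
  have h1 := hQ.card_modEq_card_fixedPoints (MulAction.fixedBy X g)
  have h2 : Nat.card (MulAction.fixedPoints Q (MulAction.fixedBy X g)) = Nat.card (fixSet X Q g) := by
    refine Nat.card_congr ⟨fun x => ⟨x.1.1, x.1.2, fun y hy => congrArg Subtype.val (x.2 ⟨y, hy⟩)⟩,
      fun x => ⟨⟨x.1, x.2.1⟩, fun y => Subtype.ext (x.2.2 y y.2)⟩, fun x => rfl, fun x => rfl⟩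
  rwa [h2] at h1

theorem card_fixedBy_modEq_int [Finite X] [Fact q.Prime] {Q : Subgroup G} (hQ : IsPGroup q Q) {g : G}
    (hg : g ∈ Subgroup.centralizer (Q : Set G)) :
    (Nat.card (MulAction.fixedBy X g) : ℤ) ≡ (Nat.card (fixSet X Q g) : ℤ) [ZMOD q] :=
  Int.natCast_modEq_iff.2 (card_fixedBy_modEq hQ hg)

end fixed

section perm

variable {G : Type u} [Group G] [Finite G] {q : ℕ} {ι : Type*} [Fintype ι] (X : ι → Type v)
  [∀ j, MulAction G (X j)] [∀ j, Finite (X j)] (c : ι → ℤ)

/-- the combination of permutation characters -/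
noncomputable def permTheta (g : G) : ℂ := ∑ j, (c j : ℂ) * (Nat.card (MulAction.fixedBy (X j) g) : ℂ)

theorem permTheta_eq (g : G) :
    permTheta X c g = ((∑ j, c j * (Nat.card (MulAction.fixedBy (X j) g) : ℤ) : ℤ) : ℂ) := by
  unfold permTheta
  push_cast
  rfl

theorem isClassFunction_permTheta : IsClassFunction G (permTheta (G := G) X c) := by
  intro g x
  unfold permTheta
  refine Finset.sum_congr rfl fun j _ => ?_
  congr 1
  exact Characters.Core.isCharacter_isClassFunction (PElements.isCharacter_fixedBy (G := G) (X := X j)) g x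

/-- the multiplicities are integers -/
theorem exists_mult [Fintype G] : ∃ n : IrrCharacter G → ℤ, ∀ χ : IrrCharacter G,
    classInner (permTheta (G := G) X c) (χ : G → ℂ) = n χ := by
  have h1 : ∀ (χ : IrrCharacter G) (j : ι), ∃ k : ℕ,
      classInner (fun g : G => (Nat.card (MulAction.fixedBy (X j) g) : ℂ)) (χ : G → ℂ) = k := fun χ j =>
    Characters.Core.classInner_isNat PElements.isCharacter_fixedBy (Characters.Core.isIrr_isCharacter χ.2)
  choose k hk using h1
  refine ⟨fun χ => ∑ j, c j * (k χ j : ℤ), fun χ => ?_⟩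
  have h2 : permTheta (G := G) X c =
      ∑ j, (c j : ℂ) • (fun g : G => (Nat.card (MulAction.fixedBy (X j) g) : ℂ)) := by
    funext g
    rw [Finset.sum_apply]
    rfl
  rw [h2, Characters.Core.classInner_sum_left]
  push_cast
  exact Finset.sum_congr rfl fun j _ => by rw [Characters.Core.classInner_smul_left, hk]

/-- the hypothesis of T3, in terms of fixed points of `⟨g⟩ Q` -/
theorem memLocalIdeal_permTheta {M : Ideal AlgInt} [Fact q.Prime] (hM : IsPModular q M) {Q : Subgroup G}
    (hQ : IsPGroup q Q) {g : G} (hg : g ∈ Subgroup.centralizer (Q : Set G))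
    (h : (q : ℤ) ∣ ∑ j, c j * (Nat.card (fixSet (X j) Q g) : ℤ)) : MemLocalIdeal M (permTheta X c g) := by
  have hMp := isPrime_of_isPModular hM
  rw [permTheta_eq]
  refine (memLocalIdeal_intCast_iff hM _).2 ?_
  have h1 : (∑ j, c j * (Nat.card (MulAction.fixedBy (X j) g) : ℤ)) ≡
      (∑ j, c j * (Nat.card (fixSet (X j) Q g) : ℤ)) [ZMOD q] := by
    have : ∀ s : Finset ι, (∑ j ∈ s, c j * (Nat.card (MulAction.fixedBy (X j) g) : ℤ)) ≡
        (∑ j ∈ s, c j * (Nat.card (fixSet (X j) Q g) : ℤ)) [ZMOD q] := by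
      classical
      intro s
      induction s using Finset.induction_on with
      | empty => simp [Int.ModEq]
      | insert a s ha ih =>
        rw [Finset.sum_insert ha, Finset.sum_insert ha]
        exact ((card_fixedBy_modEq_int hQ hg).mul_left (c a)).add ih
    exact this _
  exact (Int.ModEq.dvd_iff h1).2 h

/-- **H3 (T3 for combinations of permutation characters).** -/
theorem exists_of_perm [Fintype G] {M : Ideal AlgInt} (hq : q.Prime) (hM : IsPModular q M) (Q : Subgroup G)
    (hQ : IsPGroup q Q) (n : IrrCharacter G → ℤ)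
    (hn : ∀ χ : IrrCharacter G, classInner (permTheta (G := G) X c) (χ : G → ℂ) = n χ)
    (h1 : ¬ (q : ℤ) ∣ n (triv G))
    (h : ∀ g ∈ Subgroup.centralizer (Q : Set G), ¬ q ∣ orderOf g →
      (q : ℤ) ∣ ∑ j, c j * (Nat.card (fixSet (X j) Q g) : ℤ)) :
    ∃ χ : IrrCharacter G, χ ∈ B0 q G ∧ ¬ q ∣ charDegree (χ : G → ℂ) ∧ (χ : G → ℂ) ≠ (fun _ => 1) ∧
      ¬ (q : ℤ) ∣ n χ := by
  have hqF : Fact q.Prime := ⟨hq⟩
  refine exists_of_theta hq hM Q hQ n h1 fun g hg hgq => ⟨1, Q.one_mem, ?_⟩
  rw [mul_one, theta_of_inner (isClassFunction_permTheta X c) n hn]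
  exact memLocalIdeal_permTheta X c hM hQ hg (h g hg hgq)

/-- **H3, row form** -/
theorem rowReal_of_perm [Fintype G] (hq : q.Prime) (Q : Subgroup G)
    (hQ : IsPGroup q Q) (n : IrrCharacter G → ℤ)
    (hn : ∀ χ : IrrCharacter G, classInner (permTheta (G := G) X c) (χ : G → ℂ) = n χ)
    (h1 : ¬ (q : ℤ) ∣ n (triv G))
    (hr : ∀ χ : IrrCharacter G, ¬ (q : ℤ) ∣ n χ → ¬ q ∣ charDegree (χ : G → ℂ) →
      ¬ 2 ∣ charDegree (χ : G → ℂ) ∧ ∀ g, ((χ : G → ℂ) g).im = 0)
    (h : ∀ g ∈ Subgroup.centralizer (Q : Set G), ¬ q ∣ orderOf g →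
      (q : ℤ) ∣ ∑ j, c j * (Nat.card (fixSet (X j) Q g) : ℤ)) :
    Cfsg.Agent.H706.PB.RowReal q G := by
  intro M hM
  obtain ⟨χ, hχ, hd, hne, hnχ⟩ := exists_of_perm X c hq hM Q hQ n hn h1 h
  obtain ⟨h2, h3⟩ := hr χ hnχ hd
  exact ⟨χ, hχ M hM, hne, h2, hd, h3⟩

/-- the multiplicity of the trivial character, `X j` transitive: `∑ c j` -/
theorem mult_triv [Fintype G] (n : IrrCharacter G → ℤ)
    (hn : ∀ χ : IrrCharacter G, classInner (permTheta (G := G) X c) (χ : G → ℂ) = n χ)
    (ht : ∀ j, MulAction.IsPretransitive G (X j)) [∀ j, Nonempty (X j)] : n (triv G) = ∑ j, c j := by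
  classical
  have h0 : ((Fintype.card G : ℕ) : ℂ) ≠ 0 := by exact_mod_cast Fintype.card_ne_zero
  have h1 := hn (triv G)
  have h2 : ∀ j, (∑ g : G, (Nat.card (MulAction.fixedBy (X j) g) : ℂ)) = Fintype.card G := by
    intro j
    have := ht j
    have := Fintype.ofFinite (X j)
    have := Fintype.ofFinite (Quotient (MulAction.orbitRel G (X j)))
    have h3 := MulAction.sum_card_fixedBy_eq_card_orbits_mul_card_group G (X j)
    have h4 : Fintype.card (Quotient (MulAction.orbitRel G (X j))) = 1 := by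
      rw [Fintype.card_eq_one_iff]
      obtain ⟨x⟩ : Nonempty (X j) := inferInstance
      refine ⟨Quotient.mk _ x, fun y => ?_⟩
      induction y using Quotient.inductionOn with
      | h y =>
        apply Quotient.sound
        obtain ⟨g, hg⟩ := MulAction.exists_smul_eq G x y
        exact ⟨g, hg⟩
    rw [h4, one_mul] at h3
    have h5 : (∑ g : G, Nat.card (MulAction.fixedBy (X j) g)) = Fintype.card G := by
      rw [← h3]
      exact Finset.sum_congr rfl fun g _ => Nat.card_eq_fintype_card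
    exact_mod_cast h5
  have h3 : classInner (permTheta (G := G) X c) ((triv G : IrrCharacter G) : G → ℂ) = ∑ j, (c j : ℂ) := by
    rw [Characters.Core.classInner_def]
    simp only [triv_apply, map_one, mul_one, permTheta]
    rw [Finset.sum_comm]
    simp only [← Finset.mul_sum, h2]
    rw [← Finset.sum_mul, Nat.card_eq_fintype_card, mul_comm (∑ i, (c i : ℂ)), ← mul_assoc, inv_mul_cancel₀ h0, one_mul]
  rw [h3] at h1
  exact_mod_cast h1.symm

end perm

end Cfsg.Agent.H319.PQ
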